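import Groth.Agent.EtAcyc.K548.AcBasic
import Groth.Agent.Etbc.H193.Main
import Groth.Agent.Etbc.H184.ULZA

/-!
# Maps of strict localizations over a discrete base are universally submersive with connected geometric fibres

* `isCSub_of_uloc`: the maps of strict localizations of a universally locally 0-acyclic morphism are `IsCSub`.
* `isGood_of_uloc`: a universally locally 0-acyclic morphism is good.
* `isGood_of_discrete`: any morphism to a discrete scheme is good.
-/

set_option autoImplicit false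
universe u

open CategoryTheory CategoryTheory.Limits AlgebraicGeometry Opposite IsLocalRing

namespace K219.DiscGood

open Groth.Agent.Etrest.StrictLoc Groth.Agent.Etbc.H192.ZeroAcyc Groth.Agent.Etbc.H184 K548.Good

/-- Maps of strict localizations of a locally 0-acyclic morphism are 0-acyclic. -/
theorem isZeroAcyclic_spm {X S : Scheme.{u}} {f : X ⟶ S} (hf : EtAcyc.IsLocZeroAcyclic f)
    {A B : Type u} [CommRing A] [IsLocalRing A] [CommRing B] [IsLocalRing B]
    {τ : Spec (CommRingCat.of A) ⟶ S} {σ : Spec (CommRingCat.of B) ⟶ X}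
    (hτ : IsStrictLoc τ) (hσ : IsStrictLoc σ) (β : A →+* B) (hβ : IsLocalHom β)
    (hc : spm β ≫ τ = σ ≫ f) : EtAcyc.IsZeroAcyclic (spm β) :=
  (Groth.Agent.Etbc.H198.WeBC.onStrictLocalizations_iff f _).1 hf A B τ σ hτ hσ β hβ hc

theorem sepGeomConnected_spm {X S : Scheme.{u}} {f : X ⟶ S} (hf : EtAcyc.IsLocZeroAcyclic f)
    {A B : Type u} [CommRing A] [IsLocalRing A] [CommRing B] [IsLocalRing B]
    {τ : Spec (CommRingCat.of A) ⟶ S} {σ : Spec (CommRingCat.of B) ⟶ X}
    (hτ : IsStrictLoc τ) (hσ : IsStrictLoc σ) (β : A →+* B) (hβ : IsLocalHom β)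
    (hc : spm β ≫ τ = σ ≫ f) : SepGeomConnected (spm β) :=
  ULZA.sepGeomConnected_of_isZeroAcyclic β (isZeroAcyclic_spm hf hτ hσ β hβ hc)

theorem isUnivSubmersive_spm {X S : Scheme.{u}} {f : X ⟶ S} (hf : EtAcyc.IsULocZeroAcyclic f)
    {A B : Type u} [CommRing A] [IsLocalRing A] [CommRing B] [IsLocalRing B]
    {τ : Spec (CommRingCat.of A) ⟶ S} {σ : Spec (CommRingCat.of B) ⟶ X}
    (hτ : IsStrictLoc τ) (hσ : IsStrictLoc σ) (β : A →+* B) (hβ : IsLocalHom β)
    (hc : spm β ≫ τ = σ ≫ f) : EtDesc.IsUnivSubmersive (spm β) := by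
  have hf0 : EtAcyc.IsLocZeroAcyclic f := hf f (𝟙 _) (𝟙 _) IsPullback.of_id_fst
  have h1 := isZeroAcyclic_spm hf0 hτ hσ β hβ hc
  have h2 : Surjective (spm β) := FibConn.surjective_of_isZeroAcyclic (spm β) h1
  exact K168.StrictFF.isUnivSubmersive_spm f hf τ σ hτ hσ β hc

theorem isCSub_of_uloc {X S : Scheme.{u}} {f : X ⟶ S} (hf : EtAcyc.IsULocZeroAcyclic f)
    {A B : Type u} [CommRing A] [IsLocalRing A] [CommRing B] [IsLocalRing B]
    {τ : Spec (CommRingCat.of A) ⟶ S} {σ : Spec (CommRingCat.of B) ⟶ X}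
    (hτ : IsStrictLoc τ) (hσ : IsStrictLoc σ) (β : A →+* B) (hβ : IsLocalHom β)
    (hc : spm β ≫ τ = σ ≫ f) : K548.Ac.IsCSub (spm β) := by
  have hf0 : EtAcyc.IsLocZeroAcyclic f := hf f (𝟙 _) (𝟙 _) IsPullback.of_id_fst
  refine ⟨K168.StrictFF.univSubmersive_of (isUnivSubmersive_spm hf hτ hσ β hβ hc), ?_⟩
  intro K _ _ ξ
  exact connectedSpace_pullback_right (sepGeomConnected_spm hf0 hτ hσ β hβ hc) K ξ

/-- A universally locally 0-acyclic morphism is good. -/
theorem isGood_of_uloc {X S : Scheme.{u}} {f : X ⟶ S} (hf : EtAcyc.IsULocZeroAcyclic f) :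
    IsGood f := by
  intro X₁ Y₁ g₁ b' b hsq A B _ _ _ _ τ σ hτ hσ β hβ hc
  have hg : EtAcyc.IsULocZeroAcyclic g₁ := fun X₂ Y₂ g₂ c' c hc =>
    hf g₂ (c' ≫ b') (c ≫ b) (hc.paste_horiz hsq)
  have hg0 : EtAcyc.IsLocZeroAcyclic g₁ := hg g₁ (𝟙 _) (𝟙 _) IsPullback.of_id_fst
  exact ⟨Groth.Agent.Sga4A.EtStalk.etSubmersive_of_isUnivSubmersive _
    (isUnivSubmersive_spm hg hτ hσ β hβ hc), sepGeomConnected_spm hg0 hτ hσ β hβ hc⟩

/-- Any morphism to a discrete scheme is good. -/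
theorem isGood_of_discrete {X S : Scheme.{u}} (f : X ⟶ S) [DiscreteTopology S] : IsGood f :=
  isGood_of_uloc (Groth.Agent.Etbc.H193.Main.isULocZeroAcyclic f)

theorem isGood_spm_field {k k' : Type u} [Field k] [Field k'] (i : k →+* k') :
    IsGood (spm i) := by
  have : DiscreteTopology (Spec (CommRingCat.of k)) := by
    have : Subsingleton (Spec (CommRingCat.of k)) :=
      inferInstanceAs (Subsingleton (PrimeSpectrum k))
    infer_instance
  exact isGood_of_discrete _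

end K219.DiscGood
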