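import Groth.Agent.EtAcyc.K219.DiscGood
import Groth.Agent.EtAcyc.K157.ClDef

/-!
# Strict localizations over extensions of fields: clopen subsets

`k ⟶ k'` fields, `b : Y ⟶ Spec k`, `D` a strict localization of `Y`, `D'` a strict localization of `Y_{k'}` over
`D`, `T ⟶ Spec D` any morphism: the clopen subsets of `T` and of `T ×_{Spec D} Spec D'` coincide.
-/

set_option autoImplicit false
universe u

open CategoryTheory CategoryTheory.Limits AlgebraicGeometry Opposite IsLocalRing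

namespace K219.FieldExt

open Groth.Agent.Etrest.StrictLoc K157.ClDef K548.Ac

theorem cBij_of_isCSub {X Y : Scheme.{u}} {f : X ⟶ Y} (hf : IsCSub f) : CBij f := by
  constructor
  · intro E _ h
    rw [Set.preimage_eq_empty_iff, hf.surjective.range_eq] at h
    exact Set.disjoint_univ.1 h
  · intro E' hE'
    obtain ⟨D, hD, h⟩ := hf.exists_clopen hE'
    exact ⟨D, hD, h.symm⟩

theorem cBij_fst_of_isCSub {X Y T : Scheme.{u}} {f : X ⟶ Y} (hf : IsCSub f) (g : T ⟶ Y) :
    CBij (pullback.fst g f) :=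
  cBij_of_isCSub (hf.of_isPullback (IsPullback.of_hasPullback g f).flip)

theorem cBij_snd_of_isCSub {X Y T : Scheme.{u}} {f : X ⟶ Y} (hf : IsCSub f) (g : T ⟶ Y) :
    CBij (pullback.snd f g) :=
  cBij_of_isCSub (hf.of_isPullback (IsPullback.of_hasPullback f g))

/-- The maps of strict localizations of a base change of a morphism to a discrete scheme (for instance of a
morphism of spectra of fields) are universally submersive with connected geometric fibres. -/
theorem isCSub {X S X₁ Y₁ : Scheme.{u}} (f : X ⟶ S) [DiscreteTopology S] {g₁ : X₁ ⟶ Y₁}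
    {b' : X₁ ⟶ X} {b : Y₁ ⟶ S} (hsq : IsPullback b' g₁ f b)
    {A B : Type u} [CommRing A] [IsLocalRing A] [CommRing B] [IsLocalRing B]
    {τ : Spec (CommRingCat.of A) ⟶ Y₁} {σ : Spec (CommRingCat.of B) ⟶ X₁}
    (hτ : IsStrictLoc τ) (hσ : IsStrictLoc σ) (β : A →+* B) [hβ : IsLocalHom β]
    (hc : spm β ≫ τ = σ ≫ g₁) : IsCSub (spm β) := by
  have h := Groth.Agent.Etbc.H193.Main.isULocZeroAcyclic f
  exact DiscGood.isCSub_of_uloc (fun X₂ Y₂ g₂ c' c hc =>
    h g₂ (c' ≫ b') (c ≫ b) (hc.paste_horiz hsq)) hτ hσ β hβ hc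

instance discreteTopology_spec (k : Type u) [Field k] :
    DiscreteTopology (Spec (CommRingCat.of k)) := by
  have : Subsingleton (Spec (CommRingCat.of k)) :=
    inferInstanceAs (Subsingleton (PrimeSpectrum k))
  infer_instance

section FE

variable {k k' : Type u} [Field k] [Field k'] (i : k →+* k') {Y : Scheme.{u}}
  (b : Y ⟶ Spec (CommRingCat.of k)) {D D' : Type u} [CommRing D] [IsLocalRing D] [CommRing D']
  [IsLocalRing D'] {σ : Spec (CommRingCat.of D) ⟶ Y} (hσ : IsStrictLoc σ)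

include hσ

/-- `Y_{k'}` as an abstract cartesian square. -/
theorem isCSub_of_isPullback {Y' : Scheme.{u}} {p : Y' ⟶ Y} {q : Y' ⟶ Spec (CommRingCat.of k')}
    (hsq : IsPullback p q b (spm i)) {σ' : Spec (CommRingCat.of D') ⟶ Y'} (hσ' : IsStrictLoc σ')
    (φ : D →+* D') [IsLocalHom φ] (hc : spm φ ≫ σ = σ' ≫ p) : IsCSub (spm φ) :=
  isCSub (spm i) hsq.flip hσ hσ' φ hc

theorem isCSub_fst {σ' : Spec (CommRingCat.of D') ⟶ pullback b (spm i)} (hσ' : IsStrictLoc σ')
    (φ : D →+* D') [IsLocalHom φ] (hc : spm φ ≫ σ = σ' ≫ pullback.fst b (spm i)) :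
    IsCSub (spm φ) :=
  isCSub_of_isPullback i b hσ (IsPullback.of_hasPullback b (spm i)) hσ' φ hc

/-- **(FE)** -/
theorem cBij_fst {σ' : Spec (CommRingCat.of D') ⟶ pullback b (spm i)} (hσ' : IsStrictLoc σ')
    (φ : D →+* D') [IsLocalHom φ] (hc : spm φ ≫ σ = σ' ≫ pullback.fst b (spm i))
    {T : Scheme.{u}} (g : T ⟶ Spec (CommRingCat.of D)) : CBij (pullback.fst g (spm φ)) :=
  cBij_fst_of_isCSub (isCSub_fst i b hσ hσ' φ hc) g

/-- **(FE)** -/
theorem cBij_snd {σ' : Spec (CommRingCat.of D') ⟶ pullback b (spm i)} (hσ' : IsStrictLoc σ')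
    (φ : D →+* D') [IsLocalHom φ] (hc : spm φ ≫ σ = σ' ≫ pullback.fst b (spm i))
    {T : Scheme.{u}} (g : T ⟶ Spec (CommRingCat.of D)) : CBij (pullback.snd (spm φ) g) :=
  cBij_snd_of_isCSub (isCSub_fst i b hσ hσ' φ hc) g

end FE

end K219.FieldExt
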